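import Cfsg.Agent.SymSylow.Basic

/-!
Groups generated by involutions: kernels of characters on reflection-type generating sets, Sylow 2-subgroups of
symmetric groups, and the consequence that squares lie in the commutator subgroup.
-/

set_option autoImplicit false

namespace Cfsg.Agent.OrthTwo

open Equiv

variable {G : Type*} [Group G]

/-- The involutions of a subgroup. -/
def involSet (P : Subgroup G) : Set G := {x | x ∈ P ∧ x * x = 1}

/-- A subgroup generated by its involutions. -/
def InvolGen (P : Subgroup G) : Prop := P ≤ Subgroup.closure (involSet P)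

theorem InvolGen.map {H : Type*} [Group H] {P : Subgroup G} (h : InvolGen P) (f : G →* H) : InvolGen (P.map f) := by
  rintro _ ⟨x, hx, rfl⟩
  have := Subgroup.mem_map_of_mem f (h hx)
  rw [MonoidHom.map_closure] at this
  refine (Subgroup.closure_mono ?_) this
  rintro _ ⟨y, hy, rfl⟩
  exact ⟨⟨y, hy.1, rfl⟩, by rw [← map_mul, hy.2, map_one]⟩

/-- In a group generated by involutions squares lie in the commutator subgroup. -/
theorem sq_mem_commutator {P : Subgroup G} (h : InvolGen P) (x : P) : x ^ 2 ∈ commutator P := by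
  let f : P →* Abelianization P := Abelianization.of
  rw [← Abelianization.ker_of, MonoidHom.mem_ker, map_pow]
  have hx := h x.2
  suffices ∀ g ∈ Subgroup.closure (involSet P), ∀ hg : g ∈ P, f ⟨g, hg⟩ ^ 2 = 1 from this x.1 hx x.2
  intro g hg
  have hle : Subgroup.closure (involSet P) ≤ P := (Subgroup.closure_le _).2 fun y hy => hy.1
  induction hg using Subgroup.closure_induction with
  | mem y hy =>
    intro hyP
    rw [← map_pow]
    convert map_one f
    exact Subtype.ext (by rw [SubgroupClass.coe_pow, sq]; exact hy.2)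
  | one => intro h1; rw [show (⟨1, h1⟩ : P) = 1 from rfl, map_one, one_pow]
  | mul a b ha hb iha ihb =>
    intro hab
    rw [show (⟨a * b, hab⟩ : P) = ⟨a, hle ha⟩ * ⟨b, hle hb⟩ from rfl, map_mul, mul_pow, iha, ihb, one_mul]
  | inv a ha iha =>
    intro hi
    rw [show (⟨a⁻¹, hi⟩ : P) = (⟨a, hle ha⟩ : P)⁻¹ from rfl, map_inv, inv_pow, iha, inv_one]

/-- Squares lie in the commutator subgroup of every Sylow 2-subgroup if one is generated by involutions. -/
theorem sylow_sq_mem [Finite G] (P₀ P : Sylow 2 G) (h : InvolGen (P₀ : Subgroup G)) (x : (P : Subgroup G)) :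
    x ^ 2 ∈ commutator (P : Subgroup G) := by
  have : Fact (Nat.Prime 2) := ⟨Nat.prime_two⟩
  obtain ⟨g, hg⟩ := MulAction.exists_smul_eq G P₀ P
  refine sq_mem_commutator ?_ x
  rw [← hg]
  exact h.map (MulAut.conj g).toMonoidHom

/-- The kernel of a character on a group generated by a conjugation closed set of involutions `S` and by
involutions in the kernel is generated by involutions, provided equal-valued members of `S` can be linked. -/
theorem involGen_ker {X : Type*} [CommGroup X] (χ : G →* X) (S P : Set G) (a b : G)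
    (hP : ∀ p ∈ P, p * p = 1 ∧ χ p = 1) (hS : ∀ s ∈ S, s * s = 1)
    (hconj : ∀ g ∈ Subgroup.closure (S ∪ P), ∀ s ∈ S, g * s * g⁻¹ ∈ S)
    (ha : a ∈ S) (hb : b ∈ S) (hval : ∀ s ∈ S, χ s = χ a ∨ χ s = χ b)
    (hab : χ a * χ b ≠ 1) (hne_a : χ a ≠ 1) (hne_b : χ b ≠ 1)
    (hlink : ∀ r ∈ S, ∀ s ∈ S, χ r = χ s → ∃ t ∈ S, χ t = χ r ∧ r * t = t * r ∧ s * t = t * s) :
    InvolGen (Subgroup.closure (S ∪ P) ⊓ χ.ker) := by
  set R := Subgroup.closure (S ∪ P) with hR
  set M := Subgroup.closure (involSet (R ⊓ χ.ker)) with hM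
  have hSR : ∀ s ∈ S, s ∈ R := fun s hs => Subgroup.subset_closure (Or.inl hs)
  have hinvS : ∀ s ∈ S, s⁻¹ = s := fun s hs => inv_eq_of_mul_eq_one_right (hS s hs)
  have hnorm : ∀ g ∈ R, ∀ m ∈ M, g * m * g⁻¹ ∈ M := by
    intro g hg m hm
    induction hm using Subgroup.closure_induction with
    | mem y hy =>
      refine Subgroup.subset_closure ⟨⟨R.mul_mem (R.mul_mem hg hy.1.1) (R.inv_mem hg), ?_⟩, ?_⟩
      · exact MonoidHom.mem_ker.2 (by rw [map_mul, map_mul, MonoidHom.mem_ker.1 hy.1.2, map_inv]; simp)
      · rw [show g * y * g⁻¹ * (g * y * g⁻¹) = g * (y * y) * g⁻¹ by group, hy.2]; group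
    | one => simp
    | mul x y _ _ hx hy => simpa [mul_assoc] using M.mul_mem hx hy
    | inv x _ hx => simpa [mul_assoc] using M.inv_mem hx
  have hpair : ∀ r ∈ S, ∀ s ∈ S, χ r = χ s → r * s ∈ M := by
    intro r hr s hs he
    obtain ⟨t, ht, htv, hrt, hst⟩ := hlink r hr s hs he
    have key : ∀ u ∈ S, χ u = χ r → u * t = t * u → u * t ∈ M := by
      intro u hu huv hut
      refine Subgroup.subset_closure ⟨⟨R.mul_mem (hSR u hu) (hSR t ht), ?_⟩, ?_⟩
      · exact MonoidHom.mem_ker.2 (by rw [map_mul, htv, huv, ← map_mul, hS r hr, map_one])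
      · calc u * t * (u * t) = u * (t * u) * t := by group
          _ = u * u * (t * t) := by rw [← hut]; group
          _ = 1 := by rw [hS u hu, hS t ht, one_mul]
    have h1 := key r hr rfl hrt
    have h2 := key s hs he.symm hst
    have h3 := M.mul_mem h1 (M.inv_mem h2)
    rwa [mul_inv_rev, hinvS t ht, hinvS s hs, show r * t * (t * s) = r * (t * t) * s by group, hS t ht,
      mul_one] at h3
  -- the four cosets
  let rep : Set G := {1, a, b, a * b}
  have hab' : χ a ≠ χ b := fun e => hab (by rw [e, ← map_mul, hS b hb, map_one])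
  have step : ∀ e ∈ rep, ∀ r ∈ S, ∃ m ∈ M, ∃ e' ∈ rep, e * r = m * e' := by
    intro e he r hr
    rcases hval r hr with hv | hv
    · rcases he with he | he | he | he <;> subst e
      · exact ⟨r * a, hpair r hr a ha hv, a, by simp [rep], by rw [mul_assoc, hS a ha, mul_one, one_mul]⟩
      · exact ⟨a * r, hpair a ha r hr hv.symm, 1, by simp [rep], (mul_one _).symm⟩
      · refine ⟨b * r * b * a, ?_, a * b, by simp [rep], ?_⟩
        · have hc := hconj b (hSR b hb) r hr
          rw [hinvS b hb] at hc
          refine hpair _ hc a ha ?_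
          rw [map_mul, map_mul, mul_right_comm, ← map_mul, hS b hb, map_one, one_mul, hv]
        · rw [show b * r * b * a * (a * b) = b * r * b * (a * a) * b by group, hS a ha, mul_one,
            mul_assoc _ b b, hS b hb, mul_one]
      · refine ⟨a * (b * r * b), ?_, b, by simp [rep], ?_⟩
        · have hc := hconj b (hSR b hb) r hr
          rw [hinvS b hb] at hc
          refine hpair a ha _ hc ?_
          rw [map_mul, map_mul, mul_right_comm, ← map_mul, hS b hb, map_one, one_mul, hv]
        · rw [show a * (b * r * b) * b = a * b * r * (b * b) by group, hS b hb, mul_one]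
    · rcases he with he | he | he | he <;> subst e
      · exact ⟨r * b, hpair r hr b hb hv, b, by simp [rep], by rw [mul_assoc, hS b hb, mul_one, one_mul]⟩
      · refine ⟨a * (r * b) * a⁻¹, hnorm a (hSR a ha) _ (hpair r hr b hb hv), a * b, by simp [rep], ?_⟩
        rw [show a * (r * b) * a⁻¹ * (a * b) = a * r * (b * b) by group, hS b hb, mul_one]
      · exact ⟨b * r, hpair b hb r hr hv.symm, 1, by simp [rep], (mul_one _).symm⟩
      · refine ⟨a * (b * r) * a⁻¹, hnorm a (hSR a ha) _ (hpair b hb r hr hv.symm), a, by simp [rep], ?_⟩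
        group
  have stepP : ∀ e ∈ rep, ∀ p ∈ P, ∃ m ∈ M, e * p = m * e := by
    intro e he p hp
    have heR : e ∈ R := by
      rcases he with he | he | he | he <;> subst e
      exacts [R.one_mem, hSR _ ha, hSR _ hb, R.mul_mem (hSR _ ha) (hSR _ hb)]
    refine ⟨e * p * e⁻¹, hnorm e heR _ (Subgroup.subset_closure ⟨⟨Subgroup.subset_closure (Or.inr hp), ?_⟩, (hP p hp).1⟩),
      by group⟩
    exact MonoidHom.mem_ker.2 (hP p hp).2
  have main : ∀ g ∈ R, ∃ m ∈ M, ∃ e ∈ rep, g = m * e := by
    intro g hg
    induction hg using Subgroup.closure_induction_right with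
    | one => exact ⟨1, M.one_mem, 1, by simp [rep], (one_mul _).symm⟩
    | mul_right x _ y hy ih =>
      obtain ⟨m, hm, e, he, rfl⟩ := ih
      rcases hy with hy | hy
      · obtain ⟨m', hm', e', he', h⟩ := step e he y hy
        exact ⟨m * m', M.mul_mem hm hm', e', he', by rw [mul_assoc, h, mul_assoc]⟩
      · obtain ⟨m', hm', h⟩ := stepP e he y hy
        exact ⟨m * m', M.mul_mem hm hm', e, he, by rw [mul_assoc, h, mul_assoc]⟩
    | mul_inv_cancel x _ y hy ih =>
      obtain ⟨m, hm, e, he, rfl⟩ := ih
      rcases hy with hy | hy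
      · obtain ⟨m', hm', e', he', h⟩ := step e he y hy
        exact ⟨m * m', M.mul_mem hm hm', e', he', by rw [hinvS y hy, mul_assoc, h, mul_assoc]⟩
      · obtain ⟨m', hm', h⟩ := stepP e he y hy
        exact ⟨m * m', M.mul_mem hm hm', e, he,
          by rw [inv_eq_of_mul_eq_one_right (hP y hy).1, mul_assoc, h, mul_assoc]⟩
  intro g hg
  obtain ⟨m, hm, e, he, rfl⟩ := main g hg.1
  have hmk : χ m = 1 := MonoidHom.mem_ker.1 (((Subgroup.closure_le _).2 fun y hy => hy.1 :
    M ≤ R ⊓ χ.ker) hm).2
  have hek : χ e = 1 := by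
    have := MonoidHom.mem_ker.1 hg.2
    rwa [map_mul, hmk, one_mul] at this
  rcases he with he | he | he | he <;> subst e
  · rw [mul_one]; exact hm
  · exact absurd hek hne_a
  · exact absurd hek hne_b
  · exact absurd (by rwa [map_mul] at hek) hab

/-- Sylow 2-subgroups of symmetric groups are generated by involutions. -/
theorem involGen_perm (n : ℕ) (P : Sylow 2 (Perm (Fin n))) : InvolGen (P : Subgroup (Perm (Fin n))) := by
  have : Fact (Nat.Prime 2) := ⟨Nat.prime_two⟩
  induction n using Nat.strong_induction_on with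
  | _ n ih =>
    by_cases hn : n ≤ 1
    · intro g _
      have : Subsingleton (Fin n) := ⟨fun a b => Fin.ext (by omega)⟩
      rw [Subsingleton.elim g 1]
      exact Subgroup.one_mem _
    obtain ⟨h, Q, hE, rfl⟩ := SymSylow.exists_pairGroup_le n P
    suffices InvolGen (Q : Subgroup (Perm (Fin n))) from this.map (MulAut.conj h).toMonoidHom
    have hQW : (Q : Subgroup (Perm (Fin n))) ≤ SymSylow.pairCentralizer n := fun x hx =>
      SymSylow.mem_pairCentralizer.2 (SymSylow.commute_of_normalizes Q.2 hE x (SymSylow.mem_normalizer_self hx))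
    let QW : Sylow 2 (SymSylow.pairCentralizer n) := Q.subtype hQW
    let R : Sylow 2 (Perm (Fin (n / 2))) := QW.mapSurjective (SymSylow.pairAction_surjective n)
    intro g hg
    -- every involution of R lifts to an involution of Q
    have hlift : ∀ s ∈ involSet (R : Subgroup (Perm (Fin (n / 2)))),
        ∃ q, ∃ hq : q ∈ SymSylow.pairCentralizer n, q ∈ involSet (Q : Subgroup (Perm (Fin n))) ∧
          SymSylow.pairAction n ⟨q, hq⟩ = s := by
      rintro s ⟨⟨q₀, hq₀, hqs⟩, hs2⟩
      have hsym : s.symm = s := inv_eq_of_mul_eq_one_right hs2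
      have hinv : ∀ x, SymSylow.pairLift n s (SymSylow.pairLift n s x) = x := fun x => by
        have := SymSylow.pairLift_symm n s x
        rwa [hsym] at this
      let σ : Perm (Fin n) := Function.Involutive.toPerm _ hinv
      obtain ⟨τ, hτ⟩ := SymSylow.pairAction_surjective n s
      have hσc : σ ∈ SymSylow.pairCentralizer n := by
        rw [SymSylow.mem_pairCentralizer]
        intro x
        apply Fin.ext
        show (SymSylow.pairLift n s (SymSylow.partner n x)).val =
          (SymSylow.partner n (SymSylow.pairLift n s x)).val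
        by_cases hx : x.val < 2 * (n / 2)
        · have h' : (SymSylow.partner n x).val < 2 * (n / 2) := by
            rw [SymSylow.partner_val]; split_ifs <;> omega
          have he : (⟨(SymSylow.partner n x).val / 2, by omega⟩ : Fin (n / 2)) = ⟨x.val / 2, by omega⟩ :=
            Fin.ext (SymSylow.partner_div x)
          have hm := SymSylow.partner_mod x hx
          have := (s ⟨x.val / 2, by omega⟩).isLt
          simp only [SymSylow.pairLift, dif_pos hx, dif_pos h', he]
          generalize (SymSylow.partner n x).val = a at hm ⊢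
          rw [SymSylow.partner_val]
          dsimp only
          split_ifs <;> omega
        · have h1 : SymSylow.partner n x = x := (SymSylow.partner_eq_self_iff n x).2 (by omega)
          simp only [SymSylow.pairLift, h1, dif_neg hx]
      have hσs : SymSylow.pairAction n ⟨σ, hσc⟩ = s := by
        ext k
        rw [SymSylow.pairAction_apply]
        show (SymSylow.pairLift n s _).val / 2 = _
        have hk : 2 * k.val < 2 * (n / 2) := by omega
        simp only [SymSylow.pairLift, dif_pos hk]
        have he : (⟨2 * k.val / 2, by omega⟩ : Fin (n / 2)) = k := Fin.ext (by simp only; omega)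
        rw [he]
        omega
      refine ⟨σ, hσc, ⟨?_, Equiv.ext hinv⟩, hσs⟩
      have hker : SymSylow.pairAction n (⟨σ, hσc⟩ * q₀⁻¹) = 1 := by
        rw [map_mul, map_inv, hσs, hqs, mul_inv_cancel]
      have h1 := hE (SymSylow.pairAction_ker_le n _ hker)
      have h2 := (Q : Subgroup (Perm (Fin n))).mul_mem h1 (show q₀.1 ∈ (Q : Subgroup (Perm (Fin n))) from hq₀)
      simpa using h2
    set M := Subgroup.closure (involSet (Q : Subgroup (Perm (Fin n)))) with hM
    have hker : ∀ x : SymSylow.pairCentralizer n, SymSylow.pairAction n x = 1 → x.1 ∈ M := fun x hx =>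
      Subgroup.subset_closure ⟨hE (SymSylow.pairAction_ker_le n x hx),
        SymSylow.pairGroup_sq n _ (SymSylow.pairAction_ker_le n x hx)⟩
    have hR := ih (n / 2) (by omega) R (show SymSylow.pairAction n ⟨g, hQW hg⟩ ∈ (R : Subgroup _) from
      ⟨⟨g, hQW hg⟩, hg, rfl⟩)
    have hle : Subgroup.closure (involSet (R : Subgroup (Perm (Fin (n / 2))))) ≤
        (M.subgroupOf (SymSylow.pairCentralizer n)).map (SymSylow.pairAction n) := by
      refine (Subgroup.closure_le _).2 fun s hs => ?_
      obtain ⟨q, hq, hqQ, hqs⟩ := hlift s hs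
      exact ⟨⟨q, hq⟩, Subgroup.subset_closure hqQ, hqs⟩
    obtain ⟨y, hy, hys⟩ := hle hR
    have h1 := hker (⟨g, hQW hg⟩ * y⁻¹) (by rw [map_mul, map_inv, hys, mul_inv_cancel])
    have h2 := M.mul_mem h1 (show y.1 ∈ M from hy)
    simpa using h2

end Cfsg.Agent.OrthTwo
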