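import Cfsg.Agent.OrthTwo.Model
import Cfsg.Agent.Classical.OrthMat

/-!
The Sylow 2-subgroups of the commutator subgroup of an orthogonal group over a field of odd order are generated by
involutions, so their squares lie in their derived subgroup.
-/

set_option autoImplicit false

namespace Cfsg.Agent.OrthTwo

open Module QuadraticMap Cfsg.Agent.Classical.Quad

/-- Some Sylow 2-subgroup is generated by involutions. -/
def Good (G : Type*) [Group G] : Prop := ∃ P : Sylow 2 G, InvolGen (P : Subgroup G)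

theorem Good.equiv {G H : Type*} [Group G] [Group H] [Finite G] (h : Good G) (e : G ≃* H) : Good H := by
  have : Fact (Nat.Prime 2) := ⟨Nat.prime_two⟩
  have : Finite H := Finite.of_equiv _ e.toEquiv
  obtain ⟨P, hP⟩ := h
  refine ⟨P.mapSurjective (f := e.toMonoidHom) e.surjective, ?_⟩
  exact hP.map e.toMonoidHom

theorem good_commutator {G : Type*} [Group G] [Finite G] (R : Subgroup G) (h2 : IsPGroup 2 R)
    (hodd : ¬ 2 ∣ R.index) (hI : InvolGen (R ⊓ commutator G)) : Good (commutator G) := by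
  have : Fact (Nat.Prime 2) := ⟨Nat.prime_two⟩
  set C := commutator G
  have hp : IsPGroup 2 ((R ⊓ C).subgroupOf C) :=
    (h2.to_le inf_le_left).of_equiv (Subgroup.subgroupOfEquivOfLe inf_le_right).symm
  have hidx : ¬ 2 ∣ ((R ⊓ C).subgroupOf C).index := by
    intro h
    refine hodd (h.trans ?_)
    show (R ⊓ C).relIndex C ∣ R.index
    have e1 := Subgroup.relIndex_mul_index (inf_le_left : R ⊓ C ≤ R)
    rw [← Subgroup.relIndex_mul_index (inf_le_right : R ⊓ C ≤ C), Subgroup.inf_relIndex_left] at e1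
    obtain ⟨b, hb⟩ := Subgroup.relIndex_dvd_index_of_normal C R
    have hpos : C.relIndex R ≠ 0 := fun h0 => by rw [h0, zero_mul] at hb; exact Subgroup.index_ne_zero_of_finite hb
    rw [hb, mul_left_comm] at e1
    exact ⟨b, Nat.eq_of_mul_eq_mul_left (Nat.pos_of_ne_zero hpos) e1⟩
  refine ⟨hp.toSylow hidx, ?_⟩
  rw [IsPGroup.toSylow_coe]
  intro x hx
  have hsub : involSet (R ⊓ C) ⊆ C.subtype '' involSet ((R ⊓ C).subgroupOf C) := fun y hy =>
    ⟨⟨y, hy.1.2⟩, ⟨hy.1, Subtype.ext hy.2⟩, rfl⟩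
  have h := Subgroup.closure_mono hsub (hI (show x.1 ∈ R ⊓ C from hx))
  rw [← MonoidHom.map_closure] at h
  obtain ⟨y, hy, hyx⟩ := h
  exact Subtype.val_injective hyx ▸ hy

section valuation

variable {q : ℕ}

theorem val_pow (hq : Odd q) (h1 : 1 < q) {i : ℕ} (hi : i ≠ 0) :
    padicValNat 2 (q ^ (2 * i) - 1) = padicValNat 2 (q ^ 2 - 1) + padicValNat 2 i := by
  have : Fact (Nat.Prime 2) := ⟨Nat.prime_two⟩
  obtain ⟨r, hr⟩ := hq
  have h := padicValNat.pow_two_sub_pow (x := q) (y := 1) h1 (by omega) (by omega) (n := 2 * i) (by omega)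
    (even_two_mul i)
  rw [one_pow, padicValNat.mul (a := 2) (by norm_num) hi, padicValNat.self (by norm_num)] at h
  have e : q ^ 2 - 1 = (q + 1) * (q - 1) := by simpa using Nat.sq_sub_sq q 1
  rw [e, padicValNat.mul (by omega) (by omega)]
  omega

theorem prod_pow_ne_zero (h1 : 1 < q) (m : ℕ) : ∏ i ∈ Finset.range m, (q ^ (2 * (i + 1)) - 1) ≠ 0 :=
  Finset.prod_ne_zero_iff.2 fun i _ => by
    have := Nat.one_lt_pow (n := 2 * (i + 1)) (by omega) h1
    omega

theorem val_prod (hq : Odd q) (h1 : 1 < q) (m : ℕ) :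
    padicValNat 2 (∏ i ∈ Finset.range m, (q ^ (2 * (i + 1)) - 1)) =
      m * padicValNat 2 (q ^ 2 - 1) + padicValNat 2 m.factorial := by
  have : Fact (Nat.Prime 2) := ⟨Nat.prime_two⟩
  induction m with
  | zero => simp
  | succ m ih =>
    have := Nat.one_lt_pow (n := 2 * (m + 1)) (by omega) h1
    rw [Finset.prod_range_succ, padicValNat.mul (prod_pow_ne_zero h1 m) (by omega), ih, val_pow hq h1 (by omega),
      Nat.factorial_succ, padicValNat.mul (by omega) (Nat.factorial_ne_zero m)]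
    ring

theorem val_lead (hq : Odd q) (a : ℕ) : padicValNat 2 (2 * q ^ a) = 1 := by
  have : Fact (Nat.Prime 2) := ⟨Nat.prime_two⟩
  have hne : q ^ a ≠ 0 := pow_ne_zero _ (by rintro rfl; exact absurd hq (by decide))
  rw [padicValNat.mul (by norm_num) hne, padicValNat.self (by norm_num), padicValNat.eq_zero_of_not_dvd]
  exact fun h => by have := hq.pow (n := a); rw [Nat.odd_iff] at this; omega

theorem val_sq_ge (hq : Odd q) (h1 : 1 < q) : 3 ≤ padicValNat 2 (q ^ 2 - 1) := by
  have : Fact (Nat.Prime 2) := ⟨Nat.prime_two⟩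
  obtain ⟨r, rfl⟩ := hq
  obtain ⟨s, hs⟩ := Nat.even_mul_succ_self r
  have e : (2 * r + 1) ^ 2 - 1 = 2 ^ 3 * s := by
    have h : (2 * r + 1) ^ 2 = 4 * (r * (r + 1)) + 1 := by ring
    omega
  refine (padicValNat_dvd_iff_le ?_).1 ⟨s, e⟩
  have := Nat.one_lt_pow (n := 2) (by omega) h1
  omega

theorem val_pair (hq : Odd q) (h1 : 1 < q) {m : ℕ} (hm : m ≠ 0) :
    1 ≤ padicValNat 2 (q ^ m - 1) ∧ 1 ≤ padicValNat 2 (q ^ m + 1) ∧
      padicValNat 2 (q ^ m - 1) + padicValNat 2 (q ^ m + 1) = padicValNat 2 (q ^ 2 - 1) + padicValNat 2 m ∧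
      (Even m → padicValNat 2 (q ^ m + 1) = 1) := by
  have : Fact (Nat.Prime 2) := ⟨Nat.prime_two⟩
  have hlt := Nat.one_lt_pow hm h1
  have hodd := hq.pow (n := m)
  rw [Nat.odd_iff] at hodd
  refine ⟨one_le_padicValNat_of_dvd (by omega) (by omega), one_le_padicValNat_of_dvd (by omega) (by omega), ?_, ?_⟩
  · rw [← val_pow hq h1 hm, Classical.Quad.sq_pow_sub_one, padicValNat.mul (by omega) (by omega), add_comm]
  · rintro ⟨j, rfl⟩
    obtain ⟨s, hs⟩ := hq.pow (n := j)
    obtain ⟨u, hu⟩ : ∃ u, q ^ (j + j) + 1 = 2 * (2 * u + 1) := ⟨s * (s + 1), by rw [pow_add, hs]; ring⟩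
    rw [hu, padicValNat.mul (by norm_num) (by omega), padicValNat.self (by norm_num),
      padicValNat.eq_zero_of_not_dvd (by omega)]

end valuation

variable {F : Type*} [Field F] [Finite F] {V : Type*} [AddCommGroup V] [Module F V] [Finite V]

/-- The 2-exponent of the orthogonal group. -/
noncomputable def oVal (Q : QuadraticForm F V) : ℕ := padicValNat 2 (Nat.card (oG Q))

omit [Finite F] [Finite V] in
theorem oVal_iso {W : Type*} [AddCommGroup W] [Module F W] {Q : QuadraticForm F V} {Q' : QuadraticForm F W}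
    (h : Iso Q Q') : Nat.card (oG Q) = Nat.card (oG Q') := by
  obtain ⟨e, he⟩ := h
  exact Nat.card_congr (oCongr e he).toEquiv

theorem commEquiv {G H : Type*} [Group G] [Group H] (f : G ≃* H) : Nonempty (commutator G ≃* commutator H) := by
  have e : (commutator G).map f.toMonoidHom = commutator H := by
    rw [commutator_def, commutator_def, Subgroup.map_commutator,
      Subgroup.map_top_of_surjective f.toMonoidHom f.surjective]
  exact ⟨(f.subgroupMap (commutator G)).trans (MulEquiv.subgroupCongr e)⟩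

omit [Finite V] in
theorem le_oVal (hF : Odd (Nat.card F)) (h2 : (2 : F) ≠ 0) {k l : ℕ} (hk : 2 ≤ k) (c : Fin l → F)
    (hc : ∀ j, c j ≠ 0) {Q : QuadraticForm F V} (hQ : Iso (Qm k c) Q) :
    k * tExp F + padicValNat 2 k.factorial + l ≤ oVal Q ∧
      (oVal Q = k * tExp F + padicValNat 2 k.factorial + l → Good (commutator (oG Q))) := by
  have : Fact (Nat.Prime 2) := ⟨Nat.prime_two⟩
  have : Fintype F := Fintype.ofFinite F
  have : Finite (oG (Qm k c)) := finite_oG _
  obtain ⟨D⟩ := exists_planeData h2 hF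
  obtain ⟨R, hR, hcard, hI⟩ := model_main h2 D hk c hc
  have hv : oVal Q = padicValNat 2 (Nat.card (oG (Qm k c))) := by rw [oVal, oVal_iso hQ]
  have hpos : Nat.card (oG (Qm k c)) ≠ 0 := Nat.card_pos.ne'
  refine ⟨hv ▸ (padicValNat_dvd_iff_le hpos).1 (hcard.trans R.card_subgroup_dvd_card), fun he => ?_⟩
  have hodd : ¬ 2 ∣ R.index := fun h => by
    have := mul_dvd_mul hcard h
    rw [R.card_mul_index, ← pow_succ, padicValNat_dvd_iff_le hpos, ← hv, he] at this
    omega
  obtain ⟨e, he⟩ := hQ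
  obtain ⟨f⟩ := commEquiv (oCongr e he)
  exact (good_commutator R hR hodd hI).equiv f

variable [FiniteDimensional F V]

omit [Finite V] in
theorem exists_models (h2 : (2 : F) ≠ 0) {Q : QuadraticForm F V} (hQ : (polarBilin Q).Nondegenerate) {n : ℕ}
    (hn : finrank F V = n + 1) :
    ∃ d : F, ∀ k l : ℕ, 2 * k + l = n + 1 → (l = 0 → d = 1) →
      ∃ c : Fin l → F, (∀ j, c j ≠ 0) ∧ Iso (Qm k c) Q := by
  classical
  obtain ⟨α, hα⟩ := FiniteField.exists_nonsquare (F := F) fun h => h2 (by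
    have : CharP F 2 := h ▸ ringChar.charP F
    exact CharTwo.two_eq_zero)
  let B : LinearMap.BilinForm F V := (2 : F)⁻¹ • (polarBilin Q : LinearMap.BilinForm F V)
  have hB : ∀ x y, B x y = 2⁻¹ * polar Q x y := fun x y => rfl
  have hBB : ∀ x, B x x = Q x := fun x => by rw [hB, polar_self', inv_mul_cancel_left₀ h2]
  have hS : B.IsSymm := ⟨fun x y => by rw [hB, hB, polar_comm]⟩
  have hBn : B.Nondegenerate := by
    have h : ∀ x, (∀ y, B x y = 0) → x = 0 := fun x hx => eq_zero_of_polar hQ fun y => by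
      have := hx y
      rw [hB, mul_eq_zero] at this
      exact this.resolve_left (inv_ne_zero h2)
    exact ⟨h, fun x hx => h x fun y => by rw [hS.eq]; exact hx y⟩
  obtain ⟨b, ho, h1, hlast⟩ := exists_diag_basis h2 B hS hBn hn α hα
  refine ⟨B (b (Fin.last n)) (b (Fin.last n)), fun k l hkl hl0 => ?_⟩
  have hcard : Fintype.card (Idx k l) = Fintype.card (Fin (n + 1)) := by
    simp [Fintype.card_prod]; omega
  let e₀ : Idx k l ≃ Fin (n + 1) := Fintype.equivOfCardEq hcard
  obtain ⟨e, he⟩ : ∃ e : Idx k l ≃ Fin (n + 1), ∀ p, B (b (e (.inl p))) (b (e (.inl p))) = 1 := by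
    by_cases hl : l = 0
    · refine ⟨e₀, fun p => ?_⟩
      by_cases hp : e₀ (.inl p) = Fin.last n
      · rw [hp]; exact hl0 hl
      · exact h1 _ hp
    · refine ⟨e₀.trans (Equiv.swap (e₀ (.inr ⟨0, Nat.pos_of_ne_zero hl⟩)) (Fin.last n)), fun p => h1 _ ?_⟩
      intro h
      have h' : e₀ (.inl p) = e₀ (.inr ⟨0, Nat.pos_of_ne_zero hl⟩) :=
        (Equiv.swap (e₀ (.inr ⟨0, Nat.pos_of_ne_zero hl⟩)) (Fin.last n)).injective
          (h.trans (Equiv.swap_apply_left _ _).symm)
      exact absurd (e₀.injective h') (by simp)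
  refine ⟨fun j => B (b (e (.inr j))) (b (e (.inr j))), fun j h => ?_, ?_⟩
  · change B (b (e (.inr j))) (b (e (.inr j))) = 0 at h
    by_cases hp : e (.inr j) = Fin.last n
    · rw [hp] at h
      rcases hlast with h' | h' <;> rw [h] at h'
      exacts [zero_ne_one h', hα (h' ▸ IsSquare.zero)]
    · rw [h1 _ hp] at h; exact one_ne_zero h
  let b' : Basis (Idx k l) F V := b.reindex e.symm
  have hb' : ∀ i, b' i = b (e i) := fun i => by simp [b']
  refine ⟨b'.equivFun.symm, fun x => ?_⟩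
  have hw : ∀ i, B (b' i) (b' i) = (Sum.elim (fun _ => (1 : F))
      (fun j => B (b (e (.inr j))) (b (e (.inr j)))) : Idx k l → F) i := by
    rintro (p | j) <;> rw [hb']
    · exact he p
    · rfl
  rw [Basis.equivFun_symm_apply, ← hBB, Qm, weightedSumSquares_apply]
  simp only [map_sum, map_smul, LinearMap.sum_apply, LinearMap.smul_apply, smul_eq_mul]
  refine Finset.sum_congr rfl fun i _ => ?_
  rw [Finset.sum_eq_single i (fun j _ hji => by
    rw [hb', hb', ho _ _ (fun h => hji (e.injective h))]; ring) (by simp), hw]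
  ring

/-- The odd-dimensional case. -/
theorem good_odd (hF : Odd (Nat.card F)) (h2 : (2 : F) ≠ 0) {m : ℕ} (hm : 2 ≤ m) :
    Good (commutator (oG (hyp (sqForm F) m))) := by
  have : Fintype F := Fintype.ofFinite F
  have : Fact (Nat.Prime 2) := ⟨Nat.prime_two⟩
  have hn : finrank F (((Fin m → F) × (Fin m → F)) × F) = 2 * m + 1 := by
    rw [Module.finrank_prod, Module.finrank_prod, Module.finrank_fin_fun, Module.finrank_self]; omega
  obtain ⟨d, hd⟩ := exists_models h2 (nondeg_hyp (nondeg_sqForm h2) m) hn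
  obtain ⟨c, hc, hI⟩ := hd m 1 rfl (by omega)
  refine (le_oVal hF h2 hm c hc hI).2 ?_
  have h1 : 1 < Nat.card F := Finite.one_lt_card
  rw [oVal, card_oG_odd Nat.card_eq_fintype_card.symm h2 m,
    padicValNat.mul (by positivity) (prod_pow_ne_zero h1 m), val_lead hF, val_prod hF h1, tExp]
  omega

omit [Finite V] in
/-- An even-dimensional space of one type, the other type being given. -/
theorem good_even (hF : Odd (Nat.card F)) (h2 : (2 : F) ≠ 0) {m : ℕ} (hm : 2 ≤ m) {Q : QuadraticForm F V}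
    (hQ : (polarBilin Q).Nondegenerate) (hdim : finrank F V = 2 * m) {W : Type*} [AddCommGroup W] [Module F W]
    [Finite W] [FiniteDimensional F W] {Q' : QuadraticForm F W}
    (hcases : ∀ M : QuadraticForm F (Idx m 0 → F), (polarBilin M).Nondegenerate → Iso M Q ∨ Iso M Q')
    (hz : zcard Q ≠ zcard Q') (e e' : ℕ) (he : 1 ≤ e) (he' : 1 ≤ e')
    (hv : oVal Q = 1 + e + (m - 1) * tExp F + padicValNat 2 (m - 1).factorial)
    (hv' : oVal Q' = 1 + e' + (m - 1) * tExp F + padicValNat 2 (m - 1).factorial)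
    (hsum : e + e' = tExp F + padicValNat 2 m) (hsmall : 3 ≤ m ∨ e' = 1) :
    Good (commutator (oG Q)) := by
  have : Fintype F := Fintype.ofFinite F
  have : Fact (Nat.Prime 2) := ⟨Nat.prime_two⟩
  have ht : 3 ≤ tExp F := val_sq_ge hF Finite.one_lt_card
  obtain ⟨j, rfl⟩ : ∃ j, m = j + 1 := ⟨m - 1, by omega⟩
  have hfac : padicValNat 2 (j + 1).factorial = padicValNat 2 (j + 1) + padicValNat 2 j.factorial := by
    rw [Nat.factorial_succ, padicValNat.mul (by omega) (Nat.factorial_ne_zero j)]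
  rw [Nat.add_sub_cancel] at hv hv'
  rcases hcases (Qm (j + 1) (Fin.elim0 : Fin 0 → F)) (nondeg_Qm h2 _ fun i => i.elim0) with hI | hI
  · obtain ⟨hle, hgood⟩ := le_oVal hF h2 hm _ (fun i : Fin 0 => i.elim0) hI
    refine hgood ?_
    rw [hfac, add_mul, one_mul] at hle ⊢
    omega
  · have hle := (le_oVal hF h2 hm _ (fun i : Fin 0 => i.elim0) hI).1
    rw [hfac, add_mul, one_mul] at hle
    obtain ⟨d, hd⟩ := exists_models h2 hQ (n := 2 * j + 1) (by omega)
    obtain ⟨c, hc, hI2⟩ := hd j 2 (by omega) (by omega)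
    refine (le_oVal hF h2 (by omega) c hc hI2).2 ?_
    by_cases hd1 : d = 1
    · obtain ⟨c', -, hI3⟩ := hd (j + 1) 0 (by omega) fun _ => hd1
      rw [Subsingleton.elim c' Fin.elim0] at hI3
      exact absurd ((hI3.zcard_eq).symm.trans hI.zcard_eq) hz
    omega

theorem good_plus (hF : Odd (Nat.card F)) (h2 : (2 : F) ≠ 0) {m : ℕ} (hm : 2 ≤ m) (hm' : Even m ∨ 3 ≤ m) :
    Good (commutator (oG (hyp (zeroForm F) m))) := by
  have : Fintype F := Fintype.ofFinite F
  have : Fact (Nat.Prime 2) := ⟨Nat.prime_two⟩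
  have h1 : 1 < Nat.card F := Finite.one_lt_card
  obtain ⟨j, rfl⟩ : ∃ j, m = j + 1 := ⟨m - 1, by omega⟩
  obtain ⟨ζ, hζ⟩ := exists_rootfree (F := F)
  have hab := rootfree_aniso hζ
  obtain ⟨p1, p2, p3, p4⟩ := val_pair hF h1 (m := j + 1) (by omega)
  have hne : 1 < Nat.card F ^ (j + 1) := Nat.one_lt_pow (by omega) h1
  refine good_even hF h2 hm (nondeg_hyp nondeg_zeroForm _) ?_ (W := ((Fin j → F) × (Fin j → F)) × (F × F))
    (Q' := hyp (binForm 1 ζ) j) ?_ (not_iso_plus_minus hab j)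
    _ _ p1 p2 ?_ ?_ p3 (hm'.symm.imp id p4)
  · rw [Module.finrank_prod, Module.finrank_prod, Module.finrank_fin_fun, Module.finrank_fin_fun]; omega
  · intro M hM
    rcases even_cases hM (m := j + 1) (by rw [Module.finrank_fintype_fun_eq_card]; simp [mul_comm]) with h | ⟨-, h⟩
    · exact Or.inl h.symm
    · exact Or.inr (h _ _ hab).symm
  · rw [oVal, card_oG_plus Nat.card_eq_fintype_card.symm j,
      padicValNat.mul (mul_ne_zero (by positivity) (by omega)) (prod_pow_ne_zero h1 j),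
      padicValNat.mul (by positivity) (by omega), val_lead hF, val_prod hF h1, tExp, Nat.add_sub_cancel]
    omega
  · rw [oVal, card_oG_minus hab Nat.card_eq_fintype_card.symm j,
      padicValNat.mul (mul_ne_zero (by positivity) (by omega)) (prod_pow_ne_zero h1 j),
      padicValNat.mul (by positivity) (by omega), val_lead hF, val_prod hF h1, tExp, Nat.add_sub_cancel]
    omega

theorem good_minus (hF : Odd (Nat.card F)) (h2 : (2 : F) ≠ 0) {a b : F}
    (hab : ∀ z₁ z₂ : F, z₁ ^ 2 + a * z₁ * z₂ + b * z₂ ^ 2 = 0 → z₁ = 0 ∧ z₂ = 0) {j : ℕ} (hj : 2 ≤ j) :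
    Good (commutator (oG (hyp (binForm a b) j))) := by
  have : Fintype F := Fintype.ofFinite F
  have : Fact (Nat.Prime 2) := ⟨Nat.prime_two⟩
  have h1 : 1 < Nat.card F := Finite.one_lt_card
  obtain ⟨p1, p2, p3, -⟩ := val_pair hF h1 (m := j + 1) (by omega)
  have hne : 1 < Nat.card F ^ (j + 1) := Nat.one_lt_pow (by omega) h1
  refine good_even hF h2 (m := j + 1) (by omega) (nondeg_hyp (nondeg_binForm hab) _) ?_
    (W := ((Fin (j + 1) → F) × (Fin (j + 1) → F)) × (Fin 0 → F))
    (Q' := hyp (zeroForm F) (j + 1)) ?_ (not_iso_plus_minus hab j).symm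
    _ _ p2 p1 ?_ ?_ (by rw [add_comm]; exact p3) (Or.inl (by omega))
  · simp only [Module.finrank_prod, Module.finrank_fin_fun, Module.finrank_self]; omega
  · intro M hM
    rcases even_cases hM (m := j + 1) (by rw [Module.finrank_fintype_fun_eq_card]; simp [mul_comm]) with h | ⟨-, h⟩
    · exact Or.inr h.symm
    · exact Or.inl (h _ _ hab).symm
  · rw [oVal, card_oG_minus hab Nat.card_eq_fintype_card.symm j,
      padicValNat.mul (mul_ne_zero (by positivity) (by omega)) (prod_pow_ne_zero h1 j),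
      padicValNat.mul (by positivity) (by omega), val_lead hF, val_prod hF h1, tExp, Nat.add_sub_cancel]
    omega
  · rw [oVal, card_oG_plus Nat.card_eq_fintype_card.symm j,
      padicValNat.mul (mul_ne_zero (by positivity) (by omega)) (prod_pow_ne_zero h1 j),
      padicValNat.mul (by positivity) (by omega), val_lead hF, val_prod hF h1, tExp, Nat.add_sub_cancel]
    omega

omit [FiniteDimensional F V] in
/-- Transfer to the matrix group. -/
theorem omega_sq {ι : Type} [Fintype ι] [DecidableEq ι] {q : (ι → F) → F} {Q : QuadraticForm F V}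
    (e : (ι → F) ≃ₗ[F] V) (he : ∀ x, Q (e x) = q x) (h : Good (commutator (oG Q)))
    (P : Sylow 2 (Cfsg.Omega F q)) (x : (P : Subgroup (Cfsg.Omega F q))) :
    x ^ 2 ∈ commutator (P : Subgroup (Cfsg.Omega F q)) := by
  have : Finite (oG Q) := finite_oG _
  have hfun : q = ⇑(Q.comp e.toLinearMap) := funext fun v => (he v).symm
  subst hfun
  let f : Cfsg.isometryGroup F ⇑(Q.comp e.toLinearMap) ≃* oG Q :=
    (oEquiv (Q.comp e.toLinearMap)).trans (oCongr e fun v => rfl)
  obtain ⟨g⟩ := commEquiv f.symm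
  have hC : Good (Cfsg.Omega F ⇑(Q.comp e.toLinearMap)) := by
    refine h.equiv (g.trans (MulEquiv.subgroupCongr ?_))
    rw [Cfsg.Omega, commutator_def]
  obtain ⟨P₀, h₀⟩ := hC
  exact sylow_sq_mem P₀ P h₀ x

omit [Finite F] in
theorem card_facts [Fintype F] (hF : Odd (Fintype.card F)) : Odd (Nat.card F) ∧ (2 : F) ≠ 0 := by
  refine ⟨by rwa [Nat.card_eq_fintype_card], fun h2 => ?_⟩
  have hc : CharP F 2 := CharTwo.of_one_ne_zero_of_two_eq_zero one_ne_zero h2
  have := FiniteField.even_card_iff_char_two.1 (ringChar.eq F 2)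
  rw [Nat.odd_iff] at hF
  omega

end Cfsg.Agent.OrthTwo
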