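import Cfsg.Agent.OrthTwo.Plane
import Cfsg.Agent.OrthTwo.InvolGen

/-!
An orthogonal sum of k planes x₀² + x₁² and l lines: the wreath product of a Sylow 2-subgroup of the plane by a
Sylow 2-subgroup of Sym k, times the signs on the lines, meets the commutator subgroup in a subgroup generated by
involutions.
-/

set_option autoImplicit false

namespace Cfsg.Agent.OrthTwo

open Module QuadraticMap Cfsg.Agent.Classical.Quad

variable {F : Type*} [Field F] {k l : ℕ}

/-- The coordinates of k planes and l lines. -/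
abbrev Idx (k l : ℕ) : Type := (Fin k × Fin 2) ⊕ Fin l

/-- k planes with weight one and l lines. -/
def Qm (k : ℕ) {l : ℕ} (c : Fin l → F) : QuadraticForm F (Idx k l → F) :=
  weightedSumSquares F (Sum.elim (fun _ => (1 : F)) c : Idx k l → F)

/-- A plane component. -/
def pl (v : Idx k l → F) (a : Fin k) : Fin 2 → F := fun i => v (.inl (a, i))

theorem Qm_apply (c : Fin l → F) (v : Idx k l → F) :
    Qm k c v = (∑ a, Q2 F (pl v a)) + ∑ j, c j * (v (.inr j) * v (.inr j)) := by
  simp [Qm, Q2_apply, pl, Fintype.sum_sum_type, Fintype.sum_prod_type, Fin.sum_univ_two]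

theorem polar_Qm (c : Fin l → F) (x y : Idx k l → F) :
    polar (Qm k c) x y = (∑ a, polar (Q2 F) (pl x a) (pl y a)) + ∑ j, 2 * (c j * (x (.inr j) * y (.inr j))) := by
  simp only [polar, Qm_apply, show ∀ a, pl (x + y) a = pl x a + pl y a from fun a => rfl, Pi.add_apply,
    Finset.sum_sub_distrib]
  rw [show (∑ j, c j * ((x (.inr j) + y (.inr j)) * (x (.inr j) + y (.inr j)))) =
      (∑ j, c j * (x (.inr j) * x (.inr j))) + (∑ j, c j * (y (.inr j) * y (.inr j))) +
        ∑ j, 2 * (c j * (x (.inr j) * y (.inr j))) by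
    rw [← Finset.sum_add_distrib, ← Finset.sum_add_distrib]
    exact Finset.sum_congr rfl fun j _ => by ring]
  ring

omit [Field F] in
theorem ext_pl {v w : Idx k l → F} (h : ∀ a, pl v a = pl w a) (h' : ∀ j, v (.inr j) = w (.inr j)) : v = w := by
  funext i
  rcases i with ⟨a, i⟩ | j
  exacts [congrFun (h a) i, h' j]

/-- A vector of one plane. -/
def embP (a : Fin k) (w : Fin 2 → F) : Idx k l → F := Sum.elim (fun p => if p.1 = a then w p.2 else 0) 0

/-- A vector of one line. -/
def embA (j : Fin l) : Idx k l → F := Pi.single (.inr j) 1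

theorem pl_embP (a b : Fin k) (w : Fin 2 → F) : pl (embP a w : Idx k l → F) b = if b = a then w else 0 := by
  funext i
  show (if b = a then w i else 0) = _
  split_ifs <;> rfl

theorem embP_inr (a : Fin k) (w : Fin 2 → F) (j : Fin l) : (embP a w : Idx k l → F) (.inr j) = 0 := rfl

theorem pl_embA (j : Fin l) (b : Fin k) : pl (embA j : Idx k l → F) b = 0 := by
  funext i
  simp [pl, embA]

theorem embA_inr (j j' : Fin l) : (embA j : Idx k l → F) (.inr j') = if j' = j then 1 else 0 := by
  by_cases h : j' = j <;> simp [embA, h]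

theorem Qm_embP (c : Fin l → F) (a : Fin k) (w : Fin 2 → F) : Qm k c (embP a w) = Q2 F w := by
  rw [Qm_apply, Finset.sum_eq_single a (fun b _ hb => by rw [pl_embP, if_neg hb, map_zero]) (by simp)]
  simp [pl_embP, embP_inr]

theorem Qm_embA (c : Fin l → F) (j : Fin l) : Qm k c (embA j) = c j := by
  rw [Qm_apply]
  simp [pl_embA, embA_inr]

theorem polar_embP (c : Fin l → F) (x : Idx k l → F) (a : Fin k) (w : Fin 2 → F) :
    polar (Qm k c) x (embP a w) = polar (Q2 F) (pl x a) w := by
  rw [polar_Qm, Finset.sum_eq_single a (fun b _ hb => by rw [pl_embP, if_neg hb]; simp [polar]) (by simp)]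
  simp [pl_embP, embP_inr]

theorem polar_embA (c : Fin l → F) (x : Idx k l → F) (j : Fin l) :
    polar (Qm k c) x (embA j) = 2 * (c j * x (.inr j)) := by
  rw [polar_Qm, Finset.sum_eq_single j (fun b _ hb => by rw [embA_inr, if_neg hb]; simp) (by simp)]
  simp [pl_embA, embA_inr, polar]

theorem nondeg_Qm (h2 : (2 : F) ≠ 0) (c : Fin l → F) (hc : ∀ j, c j ≠ 0) :
    (polarBilin (Qm k c)).Nondegenerate := nondeg_of fun x hx => by
  refine ext_pl (fun a => ?_) fun j => ?_
  · exact eq_zero_of_polar (nondeg_Q2 h2) fun w => by rw [← polar_embP c x a w]; exact hx _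
  · have := hx (embA j)
    rw [polar_embA] at this
    simpa [h2, hc j] using this

section homs

variable (c : Fin l → F)

/-- The vector map of a block element. -/
def blockFun (x : (Fin k → oG (Q2 F)) × (Fin l → ℤˣ)) (v : Idx k l → F) : Idx k l → F :=
  Sum.elim (fun p => (x.1 p.1).1 (pl v p.1) p.2) (fun j => ((x.2 j : ℤ) : F) * v (.inr j))

theorem pl_blockFun (x : (Fin k → oG (Q2 F)) × (Fin l → ℤˣ)) (v : Idx k l → F) (a : Fin k) :
    pl (blockFun x v) a = (x.1 a).1 (pl v a) := rfl

theorem blockFun_mul (x y : (Fin k → oG (Q2 F)) × (Fin l → ℤˣ)) (v : Idx k l → F) :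
    blockFun (x * y) v = blockFun x (blockFun y v) := by
  refine ext_pl (fun a => rfl) fun j => ?_
  show ((((x.2 j * y.2 j : ℤˣ)) : ℤ) : F) * v (.inr j) = ((x.2 j : ℤ) : F) * (((y.2 j : ℤ) : F) * v (.inr j))
  rw [Units.val_mul, Int.cast_mul, mul_assoc]

theorem blockFun_one (v : Idx k l → F) : blockFun (1 : (Fin k → oG (Q2 F)) × (Fin l → ℤˣ)) v = v := by
  refine ext_pl (fun a => rfl) fun j => ?_
  show (((1 : ℤˣ) : ℤ) : F) * v (.inr j) = _
  simp

/-- Block elements. -/
noncomputable def blockHom : (Fin k → oG (Q2 F)) × (Fin l → ℤˣ) →* oG (Qm k c) where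
  toFun x := ⟨{ toFun := blockFun x
                map_add' := fun v w => ext_pl (fun a => (x.1 a).1.map_add (pl v a) (pl w a)) fun j => mul_add _ _ _
                map_smul' := fun t v => ext_pl (fun a => (x.1 a).1.map_smul t (pl v a)) fun j => mul_left_comm _ t _
                invFun := blockFun x⁻¹
                left_inv := fun v => by rw [← blockFun_mul, inv_mul_cancel, blockFun_one]
                right_inv := fun v => by rw [← blockFun_mul, mul_inv_cancel, blockFun_one] }, fun v => by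
      show Qm k c (blockFun x v) = _
      rw [Qm_apply, Qm_apply]
      refine congrArg₂ (· + ·) (Finset.sum_congr rfl fun a _ => (x.1 a).2 _) (Finset.sum_congr rfl fun j _ => ?_)
      show c j * (((x.2 j : ℤ) : F) * v (.inr j) * (((x.2 j : ℤ) : F) * v (.inr j))) = _
      rcases Int.units_eq_one_or (x.2 j) with h | h <;> simp [h]⟩
  map_one' := ext_oG fun v => blockFun_one v
  map_mul' x y := ext_oG fun v => blockFun_mul x y v

theorem blockHom_apply (x : (Fin k → oG (Q2 F)) × (Fin l → ℤˣ)) (v : Idx k l → F) :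
    (blockHom c x).1 v = blockFun x v := rfl

/-- The permutations of the planes. -/
def permFun (σ : Equiv.Perm (Fin k)) (v : Idx k l → F) : Idx k l → F :=
  Sum.elim (fun p => v (.inl (σ.symm p.1, p.2))) (fun j => v (.inr j))

omit [Field F] in
theorem pl_permFun (σ : Equiv.Perm (Fin k)) (v : Idx k l → F) (a : Fin k) :
    pl (permFun σ v) a = pl v (σ.symm a) := rfl

/-- Plane permutations as isometries. -/
noncomputable def permHom : Equiv.Perm (Fin k) →* oG (Qm k c) where
  toFun σ := ⟨{ toFun := permFun σ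
                map_add' := fun v w => ext_pl (fun a => rfl) fun j => rfl
                map_smul' := fun t v => ext_pl (fun a => rfl) fun j => rfl
                invFun := permFun σ.symm
                left_inv := fun v => ext_pl (fun a => by rw [pl_permFun, pl_permFun]; simp) fun j => rfl
                right_inv := fun v => ext_pl (fun a => by rw [pl_permFun, pl_permFun]; simp) fun j => rfl },
    fun v => by
      show Qm k c (permFun σ v) = _
      rw [Qm_apply, Qm_apply]
      exact congrArg₂ (· + ·) (Equiv.sum_comp σ.symm fun a => Q2 F (pl v a)) rfl⟩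
  map_one' := ext_oG fun v => ext_pl (fun a => rfl) fun j => rfl
  map_mul' σ τ := ext_oG fun v => ext_pl (fun a => rfl) fun j => rfl

theorem permHom_apply (σ : Equiv.Perm (Fin k)) (v : Idx k l → F) : (permHom c σ).1 v = permFun σ v := rfl

theorem perm_conj_block (σ : Equiv.Perm (Fin k)) (x : (Fin k → oG (Q2 F)) × (Fin l → ℤˣ)) :
    permHom c σ * blockHom c x * (permHom c σ)⁻¹ = blockHom c (fun a => x.1 (σ.symm a), x.2) := by
  rw [mul_inv_eq_iff_eq_mul]
  refine ext_oG fun v => ext_pl (fun a => ?_) fun j => rfl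
  simp [permHom_apply, blockHom_apply, pl_blockFun, pl_permFun]

theorem blockHom_single_plane (a : Fin k) {w : Fin 2 → F} (hw : Q2 F w ≠ 0) (hq : Qm k c (embP a w) ≠ 0) :
    blockHom c (Pi.mulSingle a (rO hw), 1) = rO hq := by
  refine ext_oG fun v => ext_pl (fun b => ?_) fun j => ?_
  · rw [blockHom_apply, pl_blockFun, rO_apply, polar_embP, Qm_embP]
    show _ = pl v b - (polar (Q2 F) (pl v a) w / Q2 F w) • pl (embP a w : Idx k l → F) b
    rw [pl_embP]
    by_cases h : b = a
    · subst h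
      simp [rO_apply]
    · simp [h]
  · rw [blockHom_apply, rO_apply]
    show (((1 : ℤˣ) : ℤ) : F) * v (.inr j) = _
    simp [embP_inr]

theorem blockHom_single_line (j : Fin l) (hq : Qm k c (embA j) ≠ 0) :
    blockHom c (1, Pi.mulSingle j (-1)) = rO hq := by
  have hcj : c j ≠ 0 := by rwa [Qm_embA] at hq
  refine ext_oG fun v => ext_pl (fun b => ?_) fun i => ?_
  · rw [blockHom_apply, pl_blockFun, rO_apply]
    show pl v b = pl v b - (polar (Qm k c) v (embA j) / Qm k c (embA j)) • pl (embA j : Idx k l → F) b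
    rw [pl_embA, smul_zero, sub_zero]
  · rw [blockHom_apply, rO_apply, polar_embA, Qm_embA]
    show (((Pi.mulSingle j (-1) : Fin l → ℤˣ) i : ℤ) : F) * v (.inr i) = _
    by_cases h : i = j
    · subst h
      simp [embA_inr]
      field_simp
      ring
    · simp [embA_inr, h]

theorem block_embP (x : (Fin k → oG (Q2 F)) × (Fin l → ℤˣ)) (a : Fin k) (w : Fin 2 → F) :
    (blockHom c x).1 (embP a w) = embP a ((x.1 a).1 w) := by
  refine ext_pl (fun b => ?_) fun j => ?_
  · rw [blockHom_apply, pl_blockFun, pl_embP, pl_embP]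
    by_cases h : b = a
    · subst h; simp
    · simp [h]
  · rw [blockHom_apply]
    show _ * (embP a w : Idx k l → F) (.inr j) = _
    simp [embP_inr]

theorem block_embA (x : (Fin k → oG (Q2 F)) × (Fin l → ℤˣ)) (j : Fin l) :
    (blockHom c x).1 (embA j) = ((x.2 j : ℤ) : F) • embA j := by
  refine ext_pl (fun b => ?_) fun i => ?_
  · rw [blockHom_apply, pl_blockFun, pl_embA, map_zero]
    show (0 : Fin 2 → F) = ((x.2 j : ℤ) : F) • pl (embA j : Idx k l → F) b
    rw [pl_embA, smul_zero]
  · rw [blockHom_apply]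
    show ((x.2 i : ℤ) : F) * (embA j : Idx k l → F) (.inr i) = _
    by_cases h : i = j
    · subst h; simp [embA_inr]
    · simp [embA_inr, h]

theorem perm_embP (σ : Equiv.Perm (Fin k)) (a : Fin k) (w : Fin 2 → F) :
    (permHom c σ).1 (embP a w) = embP (σ a) w := by
  refine ext_pl (fun b => ?_) fun j => rfl
  rw [permHom_apply, pl_permFun, pl_embP, pl_embP]
  simp [Equiv.symm_apply_eq]

theorem perm_embA (σ : Equiv.Perm (Fin k)) (j : Fin l) : (permHom c σ).1 (embA j) = (embA j : Idx k l → F) := by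
  refine ext_pl (fun b => ?_) fun i => rfl
  rw [permHom_apply, pl_permFun, pl_embA, pl_embA]

theorem block_eq_perm {x : (Fin k → oG (Q2 F)) × (Fin l → ℤˣ)} {σ : Equiv.Perm (Fin k)} (h2 : (2 : F) ≠ 0)
    (h : blockHom c x = permHom c σ) : x = 1 ∧ σ = 1 := by
  have hσ : σ = 1 := Equiv.ext fun a => by
    by_contra hne
    have := congrArg (fun g : oG (Qm k c) => pl (g.1 (embP a ![1, 0])) (σ a) 0) h
    rw [Equiv.Perm.one_apply] at hne
    simp [block_embP, perm_embP, pl_embP, hne] at this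
  subst hσ
  rw [map_one] at h
  refine ⟨Prod.ext (funext fun a => ext_oG fun w => ?_) (funext fun j => ?_), rfl⟩
  · have := congrArg (fun g : oG (Qm k c) => pl (g.1 (embP a w)) a) h
    simpa [block_embP, oG_one_apply, pl_embP] using this
  · have := congrArg (fun g : oG (Qm k c) => g.1 (embA j) (.inr j)) h
    simp [block_embA, embA_inr] at this
    rcases Int.units_eq_one_or (x.2 j) with h' | h'
    · exact h'
    · exfalso
      rw [h'] at this
      simp at this
      exact h2 (by linear_combination -this)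

end homs

theorem rO_comm {V : Type*} [AddCommGroup V] [Module F V] {Q : QuadraticForm F V} {u v : V} (hu : Q u ≠ 0)
    (hv : Q v ≠ 0) (h : polar Q v u = 0) : rO hu * rO hv = rO hv * rO hu := by
  have h' := conj_rO (rO hu) hv
  rw [mul_inv_eq_iff_eq_mul] at h'
  rw [h', rO_congr _ hv (show (rO hu).1 v = v from refl_fix hu h)]

variable [Finite F]

/-- The model subgroup. -/
theorem model_main (h2 : (2 : F) ≠ 0) (D : PlaneData F) (hk : 2 ≤ k) (c : Fin l → F) (hc : ∀ j, c j ≠ 0) :
    ∃ R : Subgroup (oG (Qm k c)), IsPGroup 2 R ∧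
      2 ^ (k * tExp F + padicValNat 2 k.factorial + l) ∣ Nat.card R ∧
      InvolGen (R ⊓ commutator (oG (Qm k c))) := by
  classical
  have : Fact (Nat.Prime 2) := ⟨Nat.prime_two⟩
  have : Fintype F := Fintype.ofFinite F
  have : Finite (oG (Q2 F)) := finite_oG _
  have : Finite (oG (Qm k c)) := finite_oG _
  obtain ⟨Qp⟩ : Nonempty (Sylow 2 (Equiv.Perm (Fin k))) := inferInstance
  set Dp : Subgroup ((Fin k → oG (Q2 F)) × (Fin l → ℤˣ)) :=
    (Subgroup.pi Set.univ fun _ => D.D).prod ⊤ with hDp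
  let SP : Set (oG (Qm k c)) :=
    {g | ∃ (a : Fin k) (w : Fin 2 → F) (hw : Q2 F w ≠ 0) (hq : Qm k c (embP a w) ≠ 0), rO hw ∈ D.D ∧ g = rO hq}
  let SA : Set (oG (Qm k c)) := {g | ∃ (j : Fin l) (hq : Qm k c (embA j) ≠ 0), g = rO hq}
  let S := SP ∪ SA
  let P : Set (oG (Qm k c)) := permHom c '' involSet (Qp : Subgroup (Equiv.Perm (Fin k)))
  set K := Dp.map (blockHom c) with hK
  set P' := (Qp : Subgroup (Equiv.Perm (Fin k))).map (permHom c) with hP'
  set R := Subgroup.closure (S ∪ P) with hR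
  have hq : ∀ a (w : Fin 2 → F), Q2 F w ≠ 0 → Qm k c (embP a w) ≠ 0 := fun a w hw => by rwa [Qm_embP]
  have hqA : ∀ j, Qm k c (embA j) ≠ 0 := fun j => by rw [Qm_embA]; exact hc j
  -- R lies in a 2-group
  have hSK : ∀ s ∈ S, s ∈ K := by
    rintro s (⟨a, w, hw, hq', hD, rfl⟩ | ⟨j, hq', rfl⟩)
    · refine ⟨(Pi.mulSingle a (rO hw), 1), ⟨fun b _ => ?_, Subgroup.mem_top _⟩, blockHom_single_plane c a hw hq'⟩
      by_cases h : b = a
      · subst h; simpa using hD
      · simp [Pi.mulSingle_eq_of_ne h]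
    · exact ⟨(1, Pi.mulSingle j (-1)), ⟨fun b _ => D.D.one_mem, Subgroup.mem_top _⟩,
        blockHom_single_line c j hq'⟩
  have hPP : ∀ p ∈ P, p ∈ P' := by
    rintro p ⟨σ, hσ, rfl⟩
    exact ⟨σ, hσ.1, rfl⟩
  have hDp2 : IsPGroup 2 Dp := by
    intro x
    obtain ⟨n, hn⟩ : ∃ n, ∀ d ∈ D.D, d ^ 2 ^ n = 1 := ⟨tExp F, fun d hd => by
      have := pow_card_eq_one' (G := D.D) (x := ⟨d, hd⟩)
      rw [D.card] at this
      exact congrArg Subtype.val this⟩
    refine ⟨n + 1, Subtype.ext (Prod.ext (funext fun a => ?_) (funext fun j => ?_))⟩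
    · show (x.1.1 a) ^ 2 ^ (n + 1) = 1
      rw [pow_succ, pow_mul, hn _ (x.2.1 a trivial), one_pow]
    · show (x.1.2 j) ^ 2 ^ (n + 1) = 1
      rw [pow_succ, mul_comm, pow_mul, Int.units_sq, one_pow]
  have hnorm : P' ≤ Subgroup.normalizer (K : Set (oG (Qm k c))) := by
    rintro _ ⟨σ, hσ, rfl⟩
    have key : ∀ τ, ∀ y ∈ K, permHom c τ * y * (permHom c τ)⁻¹ ∈ K := by
      rintro τ _ ⟨x, hx, rfl⟩
      exact ⟨_, ⟨fun a _ => hx.1 (τ.symm a) trivial, Subgroup.mem_top _⟩, (perm_conj_block c τ x).symm⟩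
    refine Subgroup.mem_normalizer_iff.2 fun y => ⟨key σ y, fun hy => ?_⟩
    have := key σ⁻¹ _ hy
    rw [map_inv] at this
    simpa [mul_assoc] using this
  have hRle : R ≤ K ⊔ P' := (Subgroup.closure_le _).2 fun g hg => hg.elim
    (fun h => Subgroup.mem_sup_left (hSK g h)) fun h => Subgroup.mem_sup_right (hPP g h)
  have h2R : IsPGroup 2 R := by
    refine IsPGroup.to_le ?_ hRle
    rw [sup_comm]
    exact IsPGroup.to_sup_of_normal_right' (Qp.isPGroup'.map _) (hDp2.map _) hnorm
  -- K and P' lie in R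
  have hKR : K ≤ R := by
    rintro _ ⟨⟨d, e⟩, ⟨hd, -⟩, rfl⟩
    rw [show ((d, e) : (Fin k → oG (Q2 F)) × (Fin l → ℤˣ)) = (d, 1) * (1, e) by simp, map_mul]
    refine mul_mem ?_ ?_
    · have : Subgroup.pi Set.univ (fun _ : Fin k => D.D) ≤
          R.comap ((blockHom c).comp (MonoidHom.inl _ _)) := by
        rw [Subgroup.pi_le_iff]
        intro a
        rintro _ ⟨g, hg, rfl⟩
        have hg' := D.gen hg
        refine (Subgroup.closure_le (K := (R.comap ((blockHom c).comp (MonoidHom.inl _ _))).comap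
          (MonoidHom.mulSingle (fun _ : Fin k => oG (Q2 F)) a))).2 ?_ hg'
        rintro _ ⟨hD, w, hw, rfl⟩
        show blockHom c (Pi.mulSingle a (rO hw), 1) ∈ R
        rw [blockHom_single_plane c a hw (hq a w hw)]
        exact Subgroup.subset_closure (Or.inl (Or.inl ⟨a, w, hw, hq a w hw, hD, rfl⟩))
      exact this hd
    · have : Subgroup.pi Set.univ (fun _ : Fin l => (⊤ : Subgroup ℤˣ)) ≤
          R.comap ((blockHom c).comp (MonoidHom.inr _ _)) := by
        rw [Subgroup.pi_le_iff]
        intro j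
        rintro _ ⟨g, -, rfl⟩
        rcases Int.units_eq_one_or g with rfl | rfl
        · rw [map_one]; exact one_mem _
        · show blockHom c (1, Pi.mulSingle j (-1)) ∈ R
          rw [blockHom_single_line c j (hqA j)]
          exact Subgroup.subset_closure (Or.inl (Or.inr ⟨j, hqA j, rfl⟩))
      exact this fun _ _ => Subgroup.mem_top _
  have hPR : P' ≤ R := by
    rintro _ ⟨σ, hσ, rfl⟩
    have := Subgroup.mem_map_of_mem (permHom c) (involGen_perm k Qp hσ)
    rw [MonoidHom.map_closure] at this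
    exact Subgroup.closure_mono Set.subset_union_right this
  -- the order
  have hcard : 2 ^ (k * tExp F + padicValNat 2 k.factorial + l) ∣ Nat.card R := by
    let f : Dp × (Qp : Subgroup (Equiv.Perm (Fin k))) → R := fun z =>
      ⟨blockHom c z.1.1 * permHom c z.2.1, mul_mem (hKR ⟨_, z.1.2, rfl⟩) (hPR ⟨_, z.2.2, rfl⟩)⟩
    have hf : Function.Injective f := fun z z' h => by
      have h' : blockHom c z.1.1 * permHom c z.2.1 = blockHom c z'.1.1 * permHom c z'.2.1 :=
        congrArg Subtype.val h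
      have h'' : blockHom c (z'.1.1⁻¹ * z.1.1) = permHom c (z'.2.1 * z.2.1⁻¹) := by
        rw [map_mul, map_mul, map_inv, map_inv, eq_mul_inv_iff_mul_eq, mul_assoc, inv_mul_eq_iff_eq_mul, h']
      obtain ⟨e1, e2⟩ := block_eq_perm c h2 h''
      exact Prod.ext (Subtype.ext (inv_mul_eq_one.1 e1).symm) (Subtype.ext (mul_inv_eq_one.1 e2).symm)
    have hle := Nat.card_le_card_of_injective f hf
    have hcD : Nat.card Dp = (2 ^ tExp F) ^ k * 2 ^ l := by
      rw [hDp, Nat.card_congr (Subgroup.prodEquiv _ _).toEquiv, Nat.card_prod, Subgroup.card_top, Nat.card_pi,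
        Nat.card_congr (show (Subgroup.pi Set.univ fun _ : Fin k => D.D) ≃ (Fin k → D.D) from
          { toFun := fun x a => ⟨x.1 a, x.2 a trivial⟩
            invFun := fun x => ⟨fun a => (x a).1, fun a _ => (x a).2⟩
            left_inv := fun x => rfl
            right_inv := fun x => rfl }), Nat.card_pi]
      simp [D.card]
    have hcQ : Nat.card (Qp : Subgroup (Equiv.Perm (Fin k))) = 2 ^ padicValNat 2 k.factorial := by
      rw [Qp.card_eq_multiplicity, Nat.factorization_def _ Nat.prime_two, Nat.card_perm, Nat.card_eq_fintype_card,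
        Fintype.card_fin]
    rw [Nat.card_prod, hcD, hcQ] at hle
    obtain ⟨n, hn⟩ := IsPGroup.iff_card.1 h2R
    rw [hn] at hle ⊢
    refine pow_dvd_pow 2 ((Nat.pow_le_pow_iff_right (by norm_num : 1 < 2)).1 (le_of_eq_of_le ?_ hle))
    rw [← pow_mul, ← pow_add, ← pow_add]
    ring_nf
  refine ⟨R, h2R, hcard, ?_⟩
  -- the two characters
  have hnd := nondeg_Qm (k := k) h2 c hc
  have hfr : 2 ≤ finrank F (Idx k l → F) := by
    rw [Module.finrank_fintype_fun_eq_card, Fintype.card_sum, Fintype.card_prod, Fintype.card_fin, Fintype.card_fin]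
    omega
  let χ := (dickson hnd (hex_of_two h2 (finrank F (Idx k l → F)))).prod (spin (Qm k c))
  have hker : commutator (oG (Qm k c)) = χ.ker := by
    ext g
    rw [mem_commutator_iff hnd h2 hfr, MonoidHom.mem_ker, MonoidHom.prod_apply, Prod.mk_eq_one]
  rw [hker]
  have hchi : ∀ {v : Idx k l → F} (hv : Qm k c v ≠ 0),
      χ (rO hv) = (-1, if IsSquare (Qm k c v) then -1 else 1) := fun hv => by
    rw [MonoidHom.prod_apply, dickson_rO, spin_rO h2 hv]
    split_ifs <;> rfl
  let i0 : Fin k := ⟨0, by omega⟩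
  obtain ⟨wa, hwa, hDa, hsa⟩ := D.both true
  obtain ⟨wb, hwb, hDb, hsb⟩ := D.both false
  have hsa' : IsSquare (Qm k c (embP i0 wa)) := by rw [Qm_embP]; exact hsa.2 rfl
  have hsb' : ¬ IsSquare (Qm k c (embP i0 wb)) := by rw [Qm_embP]; simpa using hsb
  have hmemA : rO (hq i0 wa hwa) ∈ S := Or.inl ⟨i0, wa, hwa, _, hDa, rfl⟩
  have hmemB : rO (hq i0 wb hwb) ∈ S := Or.inl ⟨i0, wb, hwb, _, hDb, rfl⟩
  have hinv : ∀ p ∈ P, p * p = 1 ∧ χ p = 1 := by
    rintro p ⟨σ, hσ, rfl⟩
    refine ⟨by rw [← map_mul, hσ.2, map_one], ?_⟩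
    suffices χ.comp (permHom c) = 1 from DFunLike.congr_fun this σ
    refine MonoidHom.eq_of_eqOn_dense Equiv.Perm.closure_isSwap ?_
    rintro _ ⟨a, b, hab, rfl⟩
    have hQd : ∀ i : Fin 2, Qm k c (embP a (Pi.single i 1) - embP b (Pi.single i 1)) = 2 := fun i => by
      rw [sub_eq_add_neg, map_add', QuadraticMap.map_neg, Qm_embP, Qm_embP, polar_neg_right, polar_embP, pl_embP,
        if_neg (Ne.symm hab)]
      fin_cases i <;> simp [Q2_apply, polar, one_add_one_eq_two]
    have hd : ∀ i : Fin 2, Qm k c (embP a (Pi.single i 1) - embP b (Pi.single i 1)) ≠ 0 := fun i => by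
      rw [hQd]; exact h2
    have e : permHom c (Equiv.swap a b) = rO (hd 0) * rO (hd 1) := ext_oG fun v => by
      have key : ∀ (i : Fin 2) (x : Idx k l → F),
          (rO (hd i)).1 x = x - (x (.inl (a, i)) - x (.inl (b, i))) •
            (embP a (Pi.single i 1) - embP b (Pi.single i 1)) := fun i x => by
        rw [rO_apply, hQd, polar_sub_right, polar_embP, polar_embP, polar_Q2, polar_Q2, ← mul_sub,
          mul_div_cancel_left₀ _ h2]
        congr 2
        fin_cases i <;> simp [pl]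
      rw [permHom_apply, oG_mul_apply, key, key]
      refine ext_pl (fun p => funext fun i => ?_) fun j => by simp [permFun, embP_inr]
      show v (.inl ((Equiv.swap a b).symm p, i)) = _
      rw [Equiv.symm_swap]
      fin_cases i <;> by_cases hpa : p = a <;> by_cases hpb : p = b <;>
        simp [pl, embP, hpa, hpb, hab, Ne.symm hab, Equiv.swap_apply_of_ne_of_ne]
    show χ (permHom c (Equiv.swap a b)) = 1
    rw [e, map_mul, hchi, hchi, hQd, hQd]
    split_ifs <;> rfl
  refine involGen_ker χ S P _ _ hinv ?_ ?_ hmemA hmemB ?_ ?_ ?_ ?_ ?_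
  · rintro s (⟨a, w, hw, hq', -, rfl⟩ | ⟨j, hq', rfl⟩) <;> exact rO_mul_self _
  · -- conjugation
    have hblock : ∀ x ∈ Dp, ∀ s ∈ S, blockHom c x * s * (blockHom c x)⁻¹ ∈ S := by
      rintro x hx s (⟨a, w, hw, hq', hD, rfl⟩ | ⟨j, hq', rfl⟩)
      · rw [conj_rO]
        have hw' : Q2 F ((x.1 a).1 w) ≠ 0 := by rwa [(x.1 a).2]
        have hD' : rO hw' ∈ D.D := by
          have h1 := mul_mem (mul_mem (hx.1 a trivial) hD) (inv_mem (hx.1 a trivial))
          rwa [conj_rO] at h1
        exact Or.inl ⟨a, _, hw', hq _ _ hw', hD', rO_congr _ _ (block_embP c x a w)⟩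
      · rw [conj_rO]
        refine Or.inr ⟨j, hqA j, ?_⟩
        have hne : ((x.2 j : ℤ) : F) ≠ 0 := by rcases Int.units_eq_one_or (x.2 j) with h | h <;> simp [h]
        rw [rO_congr _ (v' := ((x.2 j : ℤ) : F) • embA j) (by rw [← block_embA, (blockHom c x).2]; exact hqA j)
          (block_embA c x j), rO_smul (hqA j) hne]
    have hperm : ∀ σ, ∀ s ∈ S, permHom c σ * s * (permHom c σ)⁻¹ ∈ S := by
      rintro σ s (⟨a, w, hw, hq', hD, rfl⟩ | ⟨j, hq', rfl⟩)
      · rw [conj_rO]
        exact Or.inl ⟨σ a, w, hw, hq _ _ hw, hD, rO_congr _ _ (perm_embP c σ a w)⟩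
      · rw [conj_rO]
        exact Or.inr ⟨j, hqA j, rO_congr _ _ (perm_embA c σ j)⟩
    suffices ∀ g ∈ Subgroup.closure (S ∪ P), (∀ s ∈ S, g * s * g⁻¹ ∈ S) ∧ ∀ s ∈ S, g⁻¹ * s * g⁻¹⁻¹ ∈ S from
      fun g hg => (this g hg).1
    intro g hg
    induction hg using Subgroup.closure_induction with
    | mem y hy =>
      rcases hy with hy | hy
      · obtain ⟨x, hx, rfl⟩ := hSK y hy
        refine ⟨hblock x hx, ?_⟩
        rw [← map_inv]
        exact hblock _ (inv_mem hx)
      · obtain ⟨σ, -, rfl⟩ := hy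
        refine ⟨hperm σ, ?_⟩
        rw [← map_inv]
        exact hperm _
    | one => simp
    | mul x y _ _ hx hy =>
      exact ⟨fun s hs => by simpa [mul_assoc] using hx.1 _ (hy.1 s hs),
        fun s hs => by simpa [mul_assoc] using hy.2 _ (hx.2 s hs)⟩
    | inv x _ hx => exact ⟨hx.2, by simpa using hx.1⟩
  · rintro s (⟨a, w, hw, hq', -, rfl⟩ | ⟨j, hq', rfl⟩) <;> rw [hchi, hchi, hchi, if_pos hsa', if_neg hsb'] <;>
      split_ifs <;> simp
  · rw [hchi, hchi, if_pos hsa', if_neg hsb']; decide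
  · rw [hchi, if_pos hsa']; decide
  · rw [hchi, if_neg hsb']; decide
  · intro r hr s hs he
    by_cases hcom : r * s = s * r
    · exact ⟨r, hr, rfl, rfl, hcom.symm⟩
    rcases hr with ⟨a, w, hw, hq', hD, rfl⟩ | ⟨j, hq', rfl⟩
    · rcases hs with ⟨a', w', hw', hq'', hD', rfl⟩ | ⟨j', hq'', rfl⟩
      · by_cases haa : a' = a
        · subst haa
          have : Nontrivial (Fin k) := Fin.nontrivial_iff_two_le.2 hk
          obtain ⟨b, hb⟩ := exists_ne a'
          obtain ⟨u, hu, hDu, hsu⟩ := D.both (decide (IsSquare (Q2 F w)))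
          have hsu' : IsSquare (Q2 F u) ↔ IsSquare (Q2 F w) := by simpa using hsu
          refine ⟨rO (hq b u hu), Or.inl ⟨b, u, hu, _, hDu, rfl⟩, ?_, ?_, ?_⟩
          · rw [hchi, hchi, Qm_embP, Qm_embP]
            simp only [hsu']
          · exact rO_comm _ _ (by rw [polar_embP, pl_embP, if_neg hb.symm]; simp [polar])
          · exact rO_comm _ _ (by rw [polar_embP, pl_embP, if_neg hb.symm]; simp [polar])
        · exact absurd (rO_comm _ _ (by rw [polar_embP, pl_embP, if_neg (Ne.symm haa)]; simp [polar])) hcom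
      · exact absurd (rO_comm _ _ (by rw [polar_embP, pl_embA]; simp [polar])) hcom
    · rcases hs with ⟨a', w', hw', hq'', hD', rfl⟩ | ⟨j', hq'', rfl⟩
      · exact absurd (rO_comm _ _ (by rw [polar_embA, embP_inr]; simp)) hcom
      · by_cases hjj : j' = j
        · subst hjj; exact absurd rfl hcom
        · exact absurd (rO_comm _ _ (by rw [polar_embA, embA_inr, if_neg (Ne.symm hjj)]; simp)) hcom

end Cfsg.Agent.OrthTwo
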