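import Cfsg.Agent.Classical.QuadTypes
import Cfsg.Agent.Classical.QuadStd
import Cfsg.Agent.Classical.OrthIndex

/-!
The plane x₀² + x₁² over a field of odd order: every isometry is a product of at most two reflections, a Sylow
2-subgroup is generated by its reflections, has order the 2-part of q² − 1, and contains reflections of both
spinor norms.
-/

set_option autoImplicit false

namespace Cfsg.Agent.OrthTwo

open Module QuadraticMap Cfsg.Agent.Classical.Quad

variable {F : Type*} [Field F]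

/-- The sum of two squares. -/
def Q2 (F : Type*) [Field F] : QuadraticForm F (Fin 2 → F) := weightedSumSquares F (fun _ : Fin 2 => (1 : F))

theorem Q2_apply (x : Fin 2 → F) : Q2 F x = x 0 * x 0 + x 1 * x 1 := by
  simp [Q2, Fin.sum_univ_two]

theorem polar_Q2 (x y : Fin 2 → F) : polar (Q2 F) x y = 2 * (x 0 * y 0 + x 1 * y 1) := by
  simp only [polar, Q2_apply, Pi.add_apply]; ring

theorem nondeg_Q2 (h2 : (2 : F) ≠ 0) : (polarBilin (Q2 F)).Nondegenerate := nondeg_of fun x hx => by
  have h0 := hx ![1, 0]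
  have h1 := hx ![0, 1]
  simp [polar_Q2, h2] at h0 h1
  funext i
  fin_cases i <;> simpa

theorem finite_oG {V : Type*} [AddCommGroup V] [Module F V] [Finite V] (Q : QuadraticForm F V) :
    Finite (oG Q) :=
  Finite.of_injective (fun g : oG Q => (g.1 : V → V)) fun _ _ h => ext_oG fun x => congrFun h x

/-- An isometry is a reflection or a reflection times the standard one. -/
theorem refl_or (h2 : (2 : F) ≠ 0) (g : oG (Q2 F)) :
    ∃ (v : Fin 2 → F) (hv : Q2 F v ≠ 0) (h : Q2 F ![0, 1] ≠ 0), g = rO hv ∨ g = rO hv * rO h := by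
  have he : Q2 F ![0, 1] ≠ 0 := by simp [Q2_apply]
  have he0 : Q2 F ![1, 0] ≠ 0 := by simp [Q2_apply]
  have fixed : ∀ h : oG (Q2 F), h.1 ![1, 0] = ![1, 0] → h = 1 ∨ h = rO he := by
    intro h h0
    have hp := polar_oG h ![1, 0] ![0, 1]
    rw [h0, polar_Q2, polar_Q2] at hp
    simp [h2] at hp
    have hn := h.2 ![0, 1]
    rw [Q2_apply, Q2_apply, hp] at hn
    simp at hn
    have hn : h.1 ![0, 1] 1 * h.1 ![0, 1] 1 = 1 := by linear_combination hn
    rw [mul_self_eq_one_iff] at hn
    have hlin : ∀ x : Fin 2 → F, x = x 0 • ![1, 0] + x 1 • ![0, 1] := fun x => by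
      funext i; fin_cases i <;> simp
    rcases hn with hn | hn
    · refine Or.inl (ext_oG fun x => ?_)
      rw [oG_one_apply, hlin x, map_add, map_smul, map_smul, h0, hlin (h.1 ![0, 1]), hp, hn]
      simp
    · refine Or.inr (ext_oG fun x => ?_)
      rw [hlin x, map_add, map_smul, map_smul, h0, hlin (h.1 ![0, 1]), hp, hn, rO_apply, polar_Q2, Q2_apply]
      funext i; fin_cases i <;> simp
      field_simp
      ring
  by_cases hd : Q2 F (![1, 0] - g.1 ![1, 0]) = 0
  · have hn := g.2 ![1, 0]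
    rw [Q2_apply, Q2_apply] at hn
    rw [Q2_apply] at hd
    simp at hn hd
    have ha : g.1 ![1, 0] 0 = 1 := by
      have : 2 * (g.1 ![1, 0] 0 - 1) = 0 := by linear_combination hn - hd
      exact sub_eq_zero.1 ((mul_eq_zero.1 this).resolve_left h2)
    have hb : g.1 ![1, 0] 1 = 0 := by
      rw [ha] at hn
      exact mul_self_eq_zero.1 (by linear_combination hn)
    rcases fixed g (by funext i; fin_cases i <;> simp [ha, hb]) with h | h
    · exact ⟨_, he, he, Or.inr (by rw [h, rO_mul_self])⟩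
    · exact ⟨_, he, he, Or.inl h⟩
  · have hmove : (rO hd * g).1 ![1, 0] = ![1, 0] := by
      have e : polar (Q2 F) (g.1 ![1, 0]) (![1, 0] - g.1 ![1, 0]) = -Q2 F (![1, 0] - g.1 ![1, 0]) := by
        have h1 := map_add' (Q := Q2 F) (g.1 ![1, 0]) (![1, 0] - g.1 ![1, 0])
        rw [add_sub_cancel, g.2] at h1
        linear_combination -h1
      rw [oG_mul_apply, rO_apply, e, neg_div, div_self hd, neg_smul, one_smul, sub_neg_eq_add, add_sub_cancel]
    rcases fixed _ hmove with h | h
    · exact ⟨_, hd, he, Or.inl ((inv_eq_of_mul_eq_one_right h).symm.trans (rO_inv _))⟩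
    · exact ⟨_, hd, he, Or.inr (by rw [← h, ← mul_assoc, rO_mul_self, one_mul])⟩

variable [Finite F]

/-- The exponent of the 2-part of q² − 1. -/
noncomputable def tExp (F : Type*) : ℕ := padicValNat 2 (Nat.card F ^ 2 - 1)

theorem two_val_split {q : ℕ} (hq : Odd q) (h1 : 1 < q) (s : ℕ) (hs : s = q - 1 ∨ s = q + 1) (h4 : 4 ∣ s) :
    padicValNat 2 (2 * s) = padicValNat 2 (q ^ 2 - 1) := by
  have : Fact (Nat.Prime 2) := ⟨Nat.prime_two⟩
  obtain ⟨k, hk⟩ := hq
  have e : q ^ 2 - 1 = (q + 1) * (q - 1) := by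
    have := Nat.sq_sub_sq q 1
    simpa using this
  rw [e, padicValNat.mul (by omega) (by omega), padicValNat.mul (by norm_num) (by omega),
    padicValNat.self (by norm_num)]
  have key : ∀ a : ℕ, 2 ∣ a → ¬ 4 ∣ a → padicValNat 2 a = 1 := fun a ha hna => by
    obtain ⟨b, rfl⟩ := ha
    rw [padicValNat.mul (by norm_num) (by omega), padicValNat.self (by norm_num),
      padicValNat.eq_zero_of_not_dvd (fun h => hna (by omega))]
  rcases hs with rfl | rfl
  · rw [key (q + 1) (by omega) (by omega)]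
  · rw [key (q - 1) (by omega) (by omega), add_comm]

theorem card_oG_Q2 (hF : Odd (Nat.card F)) (h2 : (2 : F) ≠ 0) :
    padicValNat 2 (Nat.card (oG (Q2 F))) = tExp F := by
  classical
  have : Fintype F := Fintype.ofFinite F
  have hnd := nondeg_Q2 (F := F) h2
  have hfr : finrank F (Fin 2 → F) = 2 * 1 := Module.finrank_fin_fun F
  let d := dickson hnd (hex_of_two h2 (finrank F (Fin 2 → F)))
  have h8 : 8 ∣ Nat.card (oG (Q2 F)) := by
    have he0 : Q2 F ![1, 0] ≠ 0 := by simp [Q2_apply]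
    have he01 : Q2 F ![1, 1] ≠ 0 := by simp [Q2_apply, one_add_one_eq_two, h2]
    have hρ : ∀ x, (rO he0 * rO he01).1 x = ![x 1, -x 0] := fun x => by
      rw [oG_mul_apply, rO_apply, rO_apply, polar_Q2, polar_Q2, Q2_apply, Q2_apply]
      funext i; fin_cases i <;> simp [one_add_one_eq_two, Matrix.vecHead, Matrix.vecTail] <;> field_simp <;> ring
    have hρ' : ∀ x, (rO he0).1 ((rO he01).1 x) = ![x 1, -x 0] := hρ
    have hne : ¬ (rO he0 * rO he01) ^ 2 = 1 := fun h => by
      have h1 := congrArg (fun g : oG (Q2 F) => g.1 ![1, 0] 0) h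
      simp only [pow_two, oG_mul_apply, hρ', oG_one_apply] at h1
      simp at h1
      exact h2 (by linear_combination -h1)
    have h4 : (rO he0 * rO he01) ^ 4 = 1 := ext_oG fun x => by
      simp only [pow_succ, pow_zero, one_mul, oG_mul_apply, hρ', oG_one_apply]
      funext i; fin_cases i <;> simp
    have ho : orderOf (rO he0 * rO he01) = 2 ^ (1 + 1) :=
      orderOf_eq_prime_pow (by simpa using hne) (by simpa using h4)
    have hmem : rO he0 * rO he01 ∈ d.ker := MonoidHom.mem_ker.2 (by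
      rw [map_mul, dickson_rO, dickson_rO]; rfl)
    have hdvd := orderOf_dvd_natCard (⟨_, hmem⟩ : d.ker)
    rw [Subgroup.orderOf_mk, ho] at hdvd
    have hidx : d.ker.index = 2 := by
      rw [Subgroup.index_ker, MonoidHom.range_eq_top.2 fun x => ?_, Subgroup.card_top]
      · simp
      · rcases Int.units_eq_one_or x with rfl | rfl
        exacts [⟨1, map_one _⟩, ⟨rO he0, dickson_rO _ _ _⟩]
    rw [← d.ker.card_mul_index, hidx]
    omega
  obtain ⟨s, hs, hc⟩ : ∃ s, (s = Nat.card F - 1 ∨ s = Nat.card F + 1) ∧ Nat.card (oG (Q2 F)) = 2 * s := by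
    rcases even_cases hnd hfr with ⟨e, he⟩ | ⟨-, h⟩
    · refine ⟨_, Or.inl rfl, ?_⟩
      rw [← Nat.card_congr (oCongr e he).toEquiv, card_oG_plus rfl 0, Nat.card_eq_fintype_card]
      simp
    · obtain ⟨ζ, hζ⟩ := exists_rootfree (F := F)
      obtain ⟨e, he⟩ := h _ _ (rootfree_aniso hζ)
      refine ⟨_, Or.inr rfl, ?_⟩
      rw [← Nat.card_congr (oCongr e he).toEquiv, card_oG_minus (rootfree_aniso hζ) rfl, Nat.card_eq_fintype_card]
      simp
  rw [hc] at h8 ⊢
  exact two_val_split hF Finite.one_lt_card s hs (by omega)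

variable (h2 : (2 : F) ≠ 0)

/-- The properties of the plane subgroup used in the model. -/
structure PlaneData (F : Type*) [Field F] where
  D : Subgroup (oG (Q2 F))
  two : IsPGroup 2 D
  card : Nat.card D = 2 ^ tExp F
  gen : D ≤ Subgroup.closure {g | g ∈ D ∧ ∃ (v : Fin 2 → F) (hv : Q2 F v ≠ 0), g = rO hv}
  both : ∀ P : Bool, ∃ (v : Fin 2 → F) (hv : Q2 F v ≠ 0), rO hv ∈ D ∧ (IsSquare (Q2 F v) ↔ P = true)

include h2 in
theorem exists_planeData (hF : Odd (Nat.card F)) : Nonempty (PlaneData F) := by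
  classical
  have : Fact (Nat.Prime 2) := ⟨Nat.prime_two⟩
  have : Fintype F := Fintype.ofFinite F
  have : Finite (oG (Q2 F)) := finite_oG _
  have hnd := nondeg_Q2 (F := F) h2
  have hfr : 2 ≤ finrank F (Fin 2 → F) := by rw [Module.finrank_fin_fun]
  obtain ⟨D⟩ : Nonempty (Sylow 2 (oG (Q2 F))) := inferInstance
  let d := dickson hnd (hex_of_two h2 (finrank F (Fin 2 → F)))
  let χ := d.prod (spin (Q2 F))
  have hsurj : Function.Surjective χ := surjective_chars hnd h2 hfr
  have hDsurj : ∀ y, ∃ g ∈ (D : Subgroup (oG (Q2 F))), χ g = y := by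
    have hidx := Subgroup.index_map_dvd (D : Subgroup (oG (Q2 F))) hsurj
    have h4 : ((D : Subgroup (oG (Q2 F))).map χ).index ∣ 4 := by
      have := Subgroup.index_dvd_card ((D : Subgroup (oG (Q2 F))).map χ)
      simpa [Nat.card_prod] using this
    have hodd : ¬ 2 ∣ ((D : Subgroup (oG (Q2 F))).map χ).index := fun h => D.not_dvd_index (h.trans hidx)
    have h1 : ((D : Subgroup (oG (Q2 F))).map χ).index = 1 := by
      have := Nat.le_of_dvd (by norm_num) h4
      interval_cases h : ((D : Subgroup (oG (Q2 F))).map χ).index <;> omega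
    intro y
    have := (Subgroup.index_eq_one.1 h1) ▸ Subgroup.mem_top y
    exact this
  have hrefl : ∀ g, d g = -1 → ∃ (v : Fin 2 → F) (hv : Q2 F v ≠ 0), g = rO hv := fun g hg => by
    obtain ⟨v, hv, h, rfl | rfl⟩ := refl_or h2 g
    · exact ⟨v, hv, rfl⟩
    · rw [map_mul, dickson_rO, dickson_rO] at hg
      exact absurd hg (by decide)
  refine ⟨⟨D, D.isPGroup', ?_, ?_, ?_⟩⟩
  · rw [D.card_eq_multiplicity, Nat.factorization_def _ Nat.prime_two, card_oG_Q2 hF h2]
  · intro g hg
    rcases Int.units_eq_one_or (d g) with h | h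
    · obtain ⟨r, hr, hrv⟩ := hDsurj (-1, 1)
      have hdr : d r = -1 := congrArg Prod.fst hrv
      have h1 : g * r ∈ (D : Subgroup (oG (Q2 F))) := mul_mem hg hr
      have h' : d (g * r) = -1 := by rw [map_mul, h, hdr, one_mul]
      set T : Set (oG (Q2 F)) := {g | g ∈ (D : Subgroup (oG (Q2 F))) ∧
        ∃ (v : Fin 2 → F) (hv : Q2 F v ≠ 0), g = rO hv}
      have m1 : g * r ∈ T := ⟨h1, hrefl _ h'⟩
      have m2 : r ∈ T := ⟨hr, hrefl _ hdr⟩
      have := mul_mem (Subgroup.subset_closure (k := T) m1) (inv_mem (Subgroup.subset_closure (k := T) m2))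
      rwa [mul_inv_cancel_right] at this
    · exact Subgroup.subset_closure ⟨hg, hrefl g h⟩
  · intro P
    obtain ⟨r, hr, hrv⟩ := hDsurj (-1, if P then -1 else 1)
    obtain ⟨v, hv, rfl⟩ := hrefl r (congrArg Prod.fst hrv)
    refine ⟨v, hv, hr, ?_⟩
    have := congrArg Prod.snd hrv
    change spin (Q2 F) (rO hv) = _ at this
    rw [spin_rO h2 hv] at this
    cases P <;> by_cases a : IsSquare (Q2 F v) <;> simp [a] at this ⊢

end Cfsg.Agent.OrthTwo
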